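import Cfsg.Agent.Lib.Blocks.MinSquares.Lift
import Cfsg.Agent.Lib.Blocks.MaximalPairs
import Cfsg.Agent.Lib.Blocks.Degree

/-!
# A block whose degree square sum is minimal is nilpotent

The block algebra is a direct summand of the permutation module of a Sylow group acting on both sides;
the hypothesis makes it a single orbit, with stabiliser the diagonal of a defect group.
-/

set_option linter.unusedSectionVars false
set_option linter.style.haveILetI false

namespace CfsgLib.MinSquares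

open Cfsg Chars CfsgLib.Blocks

variable {G : Type*} [Group G] {p : ℕ} [Fact p.Prime] {M : Ideal AlgInt} [M.IsPrime]

/-- Two-sided translation by pairs from a subgroup. -/
@[reducible] def biAction (P : Subgroup G) : MulAction (P × P) G where
  smul r g := (r.1 : G) * g * (r.2 : G)⁻¹
  one_smul g := by show ((1 : P) : G) * g * ((1 : P) : G)⁻¹ = g; simp
  mul_smul r s g := by
    show ((r.1 * s.1 : P) : G) * g * ((r.2 * s.2 : P) : G)⁻¹ = _
    simp only [Subgroup.coe_mul, mul_inv_rev]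
    show _ = (r.1 : G) * ((s.1 : G) * g * (s.2 : G)⁻¹) * (r.2 : G)⁻¹
    group

/-- A pair of a block gives a coefficient at an element of the centraliser. -/
theorem exists_coeff_of_pair [Fintype G] (hpM : (p : AlgInt) ∈ M) {B : Set (IrrCharacter G)}
    {Q : Subgroup G} {e : Set (IrrCharacter (Subgroup.centralizer (Q : Set G)))}
    (h : IsBrauerPairOf p M B Q e) :
    ∃ g ∈ Subgroup.centralizer (Q : Set G), ¬ MemLocalIdeal M (blockCoeff B g) := by
  classical
  have h1 := (isBrauerPairOf_iff hpM h.1 h.2.1).1.1 h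
  by_contra hcon
  push Not at hcon
  apply pairIdem_ne_zero h.1.2
  have h0 : cut (Subgroup.centralizer (Q : Set G) : Set G) (blockIdem h.2.1) = 0 := by
    apply MonoidAlgebra.ext
    ext g
    by_cases hg : g ∈ Subgroup.centralizer (Q : Set G)
    · rw [coeff_cut_of_mem _ hg, (coeff_blockIdem_eq_zero_iff h.2.1 g).2 (hcon g hg)]
      simp
    · rw [coeff_cut_of_notMem _ hg]
      simp
  rw [← h1, h0, mul_zero]

/-- A `p`-subgroup with a coefficient in its centraliser is no bigger than a defect group. -/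
theorem card_le_of_coeff [Fintype G] (hpM : (p : AlgInt) ∈ M) {B : Set (IrrCharacter G)}
    (hB : IsPBlock M B) {D : Subgroup G} (hD : IsDefectGroup p M B D) {A : Subgroup G}
    (hA : IsPGroup p A) {c : G} (hc : c ∈ Subgroup.centralizer (A : Set G))
    (hne : ¬ MemLocalIdeal M (blockCoeff B c)) : Nat.card A ≤ Nat.card D := by
  obtain ⟨h, hh, hmul⟩ := exists_pair_of_coeff hpM hA
    (blockCoeff_mem_loc hB) (fun u _ g => isClassFunction_blockCoeff B g u)
    (fun u _ g => isClassFunction_blockCoeff B g u) (blockIdem_mul_self hB) hc hne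
  have hpair : IsBrauerPairOf p M B A h := (isBrauerPairOf_iff hpM ⟨hA, hh⟩ hB).1.2 hmul
  obtain ⟨hD', hh'⟩ := exists_pair_on_defectGroup hpM hB hD
  obtain ⟨x, hx⟩ := exists_conj_below hpM (a := ⟨A, h⟩) (b := ⟨D, hD'⟩)
    (isMaximal_of_defectGroup hpM hD hh') hpair
  have h1 := Subgroup.card_le_of_le (below_le hx)
  simp only [conjPair] at h1
  rwa [Subgroup.card_map_of_injective (MulAut.conj x).injective] at h1

/-- A `p`-regular element inducing on a normalised subgroup the action of a `p`-element centralises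
it. -/
theorem mem_centralizer_of_conj_eq {Q : Subgroup G} {x y : G} {j : ℕ}
    (hx : x ∈ Subgroup.normalizer (Q : Set G)) (hxp : IsPRegular p x) (hy : y ^ (p ^ j) = 1)
    (heq : ∀ q ∈ Q, x * q * x⁻¹ = y * q * y⁻¹) : x ∈ Subgroup.centralizer (Q : Set G) := by
  have hz : ∀ q ∈ Q, (y⁻¹ * x) * q * (y⁻¹ * x)⁻¹ = q := fun q hq => by
    calc (y⁻¹ * x) * q * (y⁻¹ * x)⁻¹ = y⁻¹ * (x * q * x⁻¹) * y := by group
      _ = q := by rw [heq q hq]; group
  have hpow : ∀ n : ℕ, ∀ q ∈ Q, x ^ n * q * (x ^ n)⁻¹ = y ^ n * q * (y ^ n)⁻¹ := by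
    intro n
    induction n with
    | zero => simp
    | succ n ih =>
      intro q hq
      have hq' : x * q * x⁻¹ ∈ Q := (Subgroup.mem_normalizer_iff.1 hx q).1 hq
      calc x ^ (n + 1) * q * (x ^ (n + 1))⁻¹ = x ^ n * (x * q * x⁻¹) * (x ^ n)⁻¹ := by
            rw [pow_succ]; group
        _ = y ^ n * (y * q * y⁻¹) * (y ^ n)⁻¹ := by rw [ih _ hq', heq q hq]
        _ = y ^ (n + 1) * q * (y ^ (n + 1))⁻¹ := by rw [pow_succ]; group
  have hC : x ^ (p ^ j) ∈ Subgroup.centralizer (Q : Set G) := by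
    rw [Subgroup.mem_centralizer_iff]
    intro q hq
    have := hpow (p ^ j) q hq
    rw [hy, one_mul, inv_one, mul_one, mul_inv_eq_iff_eq_mul] at this
    exact this.symm
  have hco : (orderOf x).Coprime (p ^ j) :=
    ((Fact.out (p := p.Prime)).coprime_iff_not_dvd.2 hxp).symm.pow_right j
  obtain ⟨m, hm⟩ := exists_pow_eq_self_of_coprime hco.symm
  rw [← hm]
  exact pow_mem hC m

/-- The kernel of the two-sided regular representation on a block. -/
noncomputable def blockKernel [Fintype G] {B : Set (IrrCharacter G)} (hB : IsPBlock M B) (z w : G) :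
    loc M :=
  ⟨blockCoeff B (z⁻¹ * w), blockCoeff_mem_loc hB _⟩

theorem red_blockKernel_ne_zero_iff [Fintype G] {B : Set (IrrCharacter G)} (hB : IsPBlock M B)
    (z w : G) : red (blockKernel hB z w) ≠ 0 ↔ ¬ MemLocalIdeal M (blockCoeff B (z⁻¹ * w)) :=
  not_congr red_eq_zero_iff

theorem blockKernel_idem [Fintype G] {B : Set (IrrCharacter G)} (hB : IsPBlock M B) (z w : G) :
    ∑ u, blockKernel hB z u * blockKernel hB u w = blockKernel hB z w := by
  apply Subtype.ext
  show ((∑ u, blockKernel hB z u * blockKernel hB u w : loc M) : ℂ) = blockCoeff B (z⁻¹ * w)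
  rw [← congrFun (conv_blockCoeff_self B) (z⁻¹ * w)]
  push_cast
  simp only [blockKernel, conv]
  rw [← Equiv.sum_comp (Equiv.mulLeft z)]
  refine Finset.sum_congr rfl fun u _ => ?_
  simp only [Equiv.coe_mulLeft, inv_mul_cancel_left, mul_inv_rev, mul_assoc]

theorem blockKernel_trace [Fintype G] {B : Set (IrrCharacter G)} (hB : IsPBlock M B) :
    (loc M).subtype (∑ g, blockKernel hB g g) =
      ((∑ᶠ χ ∈ B, charDegree (χ : G → ℂ) ^ 2 : ℕ) : ℂ) := by
  classical
  rw [map_sum]
  simp only [blockKernel, Subring.subtype_apply, inv_mul_cancel]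
  rw [Finset.sum_const, Finset.card_univ, ← Nat.card_eq_fintype_card, nsmul_eq_mul, blockCoeff,
    ← mul_assoc, mul_inv_cancel₀ (Nat.cast_ne_zero.2 Nat.card_pos.ne'), one_mul]
  haveI := irrFintype G
  rw [finsum_mem_eq_sum_of_inter_support_eq (t := Finset.univ.filter (· ∈ B)) _ (by ext; simp),
    finsum_mem_eq_sum_of_inter_support_eq (t := Finset.univ.filter (· ∈ B)) _ (by ext; simp),
    Nat.cast_sum]
  refine Finset.sum_congr rfl fun χ _ => ?_
  rw [← charDegree_cast, Complex.conj_natCast, Nat.cast_pow, sq]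

/-- The conjugations realised by a pair of a block are realised in any Sylow subgroup above it. -/
theorem exists_mul_eq_conj [Fintype G] (hpM : (p : AlgInt) ∈ M)
    {B : Set (IrrCharacter G)} (hB : IsPBlock M B) {D : Subgroup G} (hD : IsDefectGroup p M B D)
    {d a : ℕ} (hd : Nat.card D = p ^ d)
    (hmin : ∑ᶠ χ ∈ B, charDegree (χ : G → ℂ) ^ 2 = p ^ (2 * a - d))
    {P : Subgroup G} (hPp : IsPGroup p P) (hcardP : Nat.card P = p ^ a)
    {Q D1 : Subgroup G} (hQP : Q ≤ P) (hDP : D1 ≤ P) (hcardD : Nat.card D1 = p ^ d)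
    {cD cQ : G} (hcD : cD ∈ Subgroup.centralizer (D1 : Set G))
    (hcD0 : ¬ MemLocalIdeal M (blockCoeff B cD)) (hcQ : cQ ∈ Subgroup.centralizer (Q : Set G))
    (hcQ0 : ¬ MemLocalIdeal M (blockCoeff B cQ)) {x : G}
    (hxN : x ∈ Subgroup.normalizer (Q : Set G)) :
    ∃ y : P, ∀ q ∈ Q, x * q * x⁻¹ = (y : G) * q * (y : G)⁻¹ := by
  classical
  haveI := charP_resField (M := M) (Fact.out (p := p.Prime)) hpM
  have hda : d ≤ a := by
    have := Subgroup.card_le_of_le hDP
    rw [hcardD, hcardP] at this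
    exact (Nat.pow_le_pow_iff_right (Fact.out (p := p.Prime)).one_lt).1 this
  letI : MulAction (P × P) G := biAction P
  have hsmul : ∀ (r : P × P) (g : G),
      r • g = (r.1 : G) * g * (r.2 : G)⁻¹ := fun _ _ => rfl
  have hR : IsPGroup p (P × P) :=
    IsPGroup.of_card (n := a + a) (by rw [Nat.card_prod, hcardP, pow_add])
  set K : G → G → loc M := blockKernel hB with hKdef
  have hne := red_blockKernel_ne_zero_iff hB (M := M)
  have hKinv : ∀ (r : P × P) z w, K (r • z) (r • w) = K z w := by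
    intro r z w
    apply Subtype.ext
    show blockCoeff B ((r • z)⁻¹ * (r • w)) = blockCoeff B (z⁻¹ * w)
    rw [hsmul, hsmul, ← isClassFunction_blockCoeff B (z⁻¹ * w) (r.2 : G)]
    congr 1
    group
  have hidem : ∀ z w, ∑ u, K z u * K u w = K z w := blockKernel_idem hB
  have hunit : ∀ s : loc M, red s ≠ 0 → IsUnit s := fun s hs =>
    isUnit_of_notMem_locIdeal fun h => hs (red_eq_zero_iff.2 (mem_locIdeal.1 h))
  have hidem' : ∀ z w, ∑ u, red (K z u) * red (K u w) = red (K z w) := fun z w => by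
    simp only [← map_mul, ← map_sum, hidem]
  obtain ⟨z, u, hstab, hzu, hinj⟩ := exists_block (p := p) (fun z w => red (K z w))
    (fun r z w => by rw [hKinv]) hidem' hR ⟨1, cD, (hne 1 cD).2 (by simpa using hcD0)⟩
  have htr : (loc M).subtype (∑ g, K g g) = ((p ^ (2 * a - d) : ℕ) : ℂ) := by
    rw [← hmin]
    exact blockKernel_trace hB
  obtain ⟨hub, hfix⟩ := orbit_bounds red (loc M).subtype K hidem hunit hstab hinj hR hKinv
    Subtype.val_injective htr
  have hstabz : ∀ r : P × P,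
      r ∈ MulAction.stabilizer _ z → (r.1 : G) * z = z * (r.2 : G) := fun r hr => by
    have := MulAction.mem_stabilizer_iff.1 hr
    rwa [hsmul, mul_inv_eq_iff_eq_mul] at this
  have hstabu : ∀ r : P × P,
      r ∈ MulAction.stabilizer _ z → (r.1 : G) * u = u * (r.2 : G) := fun r hr => by
    have := MulAction.mem_stabilizer_iff.1 (hstab ▸ hr)
    rwa [hsmul, mul_inv_eq_iff_eq_mul] at this
  have hTle : Nat.card (MulAction.stabilizer (P × P) z) ≤ p ^ d := by
    set φ : P × P →* G :=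
      P.subtype.comp (MonoidHom.snd _ _) with hφ
    set A := (MulAction.stabilizer (P × P) z).map φ with hA
    have hinjA : ∀ r ∈ MulAction.stabilizer (P × P) z,
        φ r = 1 → r = 1 := by
      intro r hr h1
      have h2 : (r.2 : G) = 1 := h1
      have := hstabz r hr
      rw [h2, mul_one] at this
      exact Prod.ext (Subtype.ext (mul_right_cancel (this.trans (one_mul z).symm))) (Subtype.ext h2)
    have hcardA : Nat.card A = Nat.card (MulAction.stabilizer (P × P) z) := by
      refine (Nat.card_congr (Equiv.ofBijective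
        (φ.subgroupMap (MulAction.stabilizer (P × P) z))
        ⟨(injective_iff_map_eq_one _).2 fun r hr => Subtype.ext (hinjA r r.2 ?_),
          MonoidHom.subgroupMap_surjective _ _⟩)).symm
      exact congrArg Subtype.val hr
    rw [← hcardA, ← hd]
    refine card_le_of_coeff hpM hB hD (hPp.to_le ?_) (c := z⁻¹ * u) ?_ ((hne z u).1 hzu)
    · rintro _ ⟨r, -, rfl⟩
      exact r.2.2
    · rw [Subgroup.mem_centralizer_iff]
      rintro _ ⟨r, hr, rfl⟩
      show (r.2 : G) * (z⁻¹ * u) = z⁻¹ * u * (r.2 : G)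
      rw [mul_assoc z⁻¹, ← hstabu r hr, ← mul_assoc, ← mul_assoc]
      congr 1
      rw [eq_inv_mul_iff_mul_eq, ← mul_assoc, ← hstabz r hr, mul_inv_cancel_right]
  have hprod : Nat.card (MulAction.orbit (P × P) z) *
      Nat.card (MulAction.stabilizer (P × P) z) = p ^ (2 * a - d) * p ^ d := by
    rw [Nat.card_coe_set_eq, ← MulAction.index_stabilizer, Subgroup.index_mul_card, Nat.card_prod,
      hcardP, ← pow_add, ← pow_add]
    congr 1
    omega
  have hpd : 0 < p ^ d := pow_pos (Fact.out (p := p.Prime)).pos d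
  have hpad : 0 < p ^ (2 * a - d) := pow_pos (Fact.out (p := p.Prime)).pos _
  have horb : p ^ (2 * a - d) ≤ Nat.card (MulAction.orbit (P × P) z) := by
    by_contra hlt
    push Not at hlt
    exact absurd hprod (ne_of_lt (Nat.mul_lt_mul_of_lt_of_le hlt hTle hpd))
  have hTeq : Nat.card (MulAction.stabilizer (P × P) z) = p ^ d := by
    rw [le_antisymm hub horb] at hprod
    exact Nat.eq_of_mul_eq_mul_left hpad hprod
  -- the diagonal of the defect group is the stabiliser of a point of the orbit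
  let δ : D1 →* P × P :=
    (Subgroup.inclusion hDP).prod (Subgroup.inclusion hDP)
  obtain ⟨x0, ⟨r0, hr0⟩, hfix0⟩ := hfix horb δ.range 1 cD (by
      rintro _ ⟨w, rfl⟩
      rw [hsmul]
      simp [δ]) (by
      rintro _ ⟨w, rfl⟩
      rw [hsmul]
      simp only [δ, MonoidHom.prod_apply, Subgroup.coe_inclusion]
      rw [Subgroup.mem_centralizer_iff.1 hcD w w.2, mul_inv_cancel_right])
    ((hne 1 cD).2 (by simpa using hcD0))
  have hδle : δ.range ≤ MulAction.stabilizer _ x0 := fun g hg =>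
    MulAction.mem_stabilizer_iff.2 (hfix0 g hg)
  have hδ : δ.range = MulAction.stabilizer _ x0 := by
    refine Subgroup.eq_of_le_of_card_ge hδle ?_
    rw [← hr0, MulAction.stabilizer_smul_eq_stabilizer_map_conj,
      Subgroup.card_map_of_injective (MulEquiv.injective _), hTeq, ← hcardD]
    refine (Nat.card_congr (MonoidHom.ofInjective (f := δ) fun w w' h => ?_).toEquiv).le
    exact Subtype.ext (congrArg (fun r : P × P => (r.1 : G)) h)
  -- the twisted diagonal of the pair
  let tw : Subgroup (P × P) :=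
    { carrier := {r | (r.1 : G) ∈ Q ∧ (r.2 : G) = x * r.1 * x⁻¹}
      one_mem' := ⟨by simp, by simp⟩
      mul_mem' := fun {r s} hr hs => ⟨by simp [Q.mul_mem hr.1 hs.1], by
        simp only [Prod.snd_mul, Prod.fst_mul, Subgroup.coe_mul, hr.2, hs.2]; group⟩
      inv_mem' := fun {r} hr => ⟨by simp [Q.inv_mem hr.1], by
        simp only [Prod.snd_inv, Prod.fst_inv, Subgroup.coe_inv, hr.2]; group⟩ }
  obtain ⟨x1, ⟨r1, hr1⟩, hfix1⟩ := hfix horb tw x⁻¹ (cQ * x⁻¹) (by
      rintro r ⟨-, h2⟩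
      rw [hsmul, h2]
      group) (by
      rintro r ⟨h1, h2⟩
      rw [hsmul, h2]
      calc (r.1 : G) * (cQ * x⁻¹) * (x * r.1 * x⁻¹)⁻¹ = ((r.1 : G) * cQ) * (r.1 : G)⁻¹ * x⁻¹ := by
            group
        _ = cQ * x⁻¹ := by
            rw [Subgroup.mem_centralizer_iff.1 hcQ _ h1, mul_inv_cancel_right]) (by
      rw [hne, inv_inv, ← mul_assoc, isClassFunction_blockCoeff B cQ x]
      exact hcQ0)
  obtain ⟨r, hr⟩ : ∃ r : P × P, r • x0 = x1 :=
    ⟨r1 * r0⁻¹, by simp only at hr0 hr1; rw [mul_smul, ← hr0, inv_smul_smul, hr1]⟩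
  refine ⟨r.2 * r.1⁻¹, fun q hq => ?_⟩
  have hxq : x * q * x⁻¹ ∈ P := hQP ((Subgroup.mem_normalizer_iff.1 hxN q).1 hq)
  have h1 := hfix1 (⟨q, hQP hq⟩, ⟨x * q * x⁻¹, hxq⟩) ⟨hq, rfl⟩
  have h2 : r⁻¹ * (⟨q, hQP hq⟩, ⟨x * q * x⁻¹, hxq⟩) * r ∈ δ.range := by
    rw [hδ, MulAction.mem_stabilizer_iff, mul_smul, mul_smul, hr, h1, ← hr, inv_smul_smul]
  obtain ⟨w, hw⟩ := h2
  have hw1 := congrArg (fun r : P × P => (r.1 : G)) hw
  have hw2 := congrArg (fun r : P × P => (r.2 : G)) hw
  simp only [δ, MonoidHom.prod_apply, Subgroup.coe_inclusion, Prod.fst_mul, Prod.snd_mul,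
    Prod.fst_inv, Prod.snd_inv, Subgroup.coe_mul, Subgroup.coe_inv] at hw1 hw2
  rw [hw1] at hw2
  simp only [Subgroup.coe_mul, Subgroup.coe_inv]
  calc x * q * x⁻¹ = (r.2 : G) * ((r.2 : G)⁻¹ * (x * q * x⁻¹) * (r.2 : G)) * (r.2 : G)⁻¹ := by group
    _ = _ := by rw [← hw2]; group


/-- **Minimal degree square sum forces nilpotency.** -/
theorem isNilpotentBlock_of_sum_sq [Fintype G] (hpM : (p : AlgInt) ∈ M)
    {B : Set (IrrCharacter G)} (hB : IsPBlock M B) {D : Subgroup G} (hD : IsDefectGroup p M B D)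
    {a d : ℕ} (ha : (Nat.card G).factorization p = a) (hd : Nat.card D = p ^ d)
    (hmin : ∑ᶠ χ ∈ B, charDegree (χ : G → ℂ) ^ 2 = p ^ (2 * a - d)) :
    IsNilpotentBlock p M B := by
  classical
  refine ⟨hB, fun Q e hQe x hxN _ hxp => ?_⟩
  obtain ⟨P, hQP⟩ := IsPGroup.exists_le_sylow hQe.1.1
  obtain ⟨hD', hh'⟩ := exists_pair_on_defectGroup hpM hB hD
  obtain ⟨P0, hP0⟩ := IsPGroup.exists_le_sylow (IsDefectGroup.isPGroup hD)
  obtain ⟨g0, hg0⟩ := MulAction.exists_smul_eq G P0 P
  have hDP : D.map (MulAut.conj g0).toMonoidHom ≤ (P : Subgroup G) := by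
    rw [← hg0, Sylow.coe_subgroup_smul]
    exact Subgroup.map_mono hP0
  obtain ⟨cD, hcD, hcD0⟩ := exists_coeff_of_pair hpM (isBrauerPairOf_conj (a := ⟨D, hD'⟩) hh' g0)
  obtain ⟨cQ, hcQ, hcQ0⟩ := exists_coeff_of_pair hpM hQe
  obtain ⟨y, hy⟩ := exists_mul_eq_conj hpM hB hD hd hmin P.isPGroup'
    (by rw [Sylow.card_eq_multiplicity, ha]) hQP hDP
    (by rw [Subgroup.card_map_of_injective (MulAut.conj g0).injective, hd]) hcD hcD0 hcQ hcQ0 hxN
  obtain ⟨j, hj⟩ := P.isPGroup' y
  exact mem_centralizer_of_conj_eq (j := j) hxN hxp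
    (by rw [← SubmonoidClass.coe_pow, hj]; rfl) hy

end CfsgLib.MinSquares
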