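import Cfsg.Agent.Lib.Blocks.MinSquares.Perm

/-!
# Lifted equivariant idempotents and their trace
-/

set_option linter.unusedSectionVars false
set_option linter.style.haveILetI false

namespace CfsgLib.MinSquares

open Matrix

/-- The trace of a complex idempotent matrix is a natural number, zero only for the zero matrix. -/
theorem idempotent_trace {ι : Type*} [Fintype ι] [DecidableEq ι] (D : Matrix ι ι ℂ)
    (hD : D * D = D) : ∃ m : ℕ, D.trace = m ∧ (m = 0 → D = 0) := by
  set L := Matrix.toLin' D with hL
  have hidem : IsIdempotentElem L := by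
    show L * L = L
    rw [hL, Module.End.mul_eq_comp, ← Matrix.toLin'_mul, hD]
  refine ⟨Module.finrank ℂ L.range, ?_, fun h => ?_⟩
  · rw [← (LinearMap.IsIdempotentElem.isProj_range L hidem).trace, hL, Matrix.trace_toLin'_eq]
  · have := Submodule.finrank_eq_zero.1 h
    rw [LinearMap.range_eq_bot] at this
    exact Matrix.toLin'.injective (this.trans (map_zero _).symm)

variable {S k R X : Type*} [CommRing S] [Field k] [Group R] [Finite R] [Fintype X] [MulAction R X]
  (red : S →+* k) (ι : S →+* ℂ) (K : X → X → S)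
  (hidem : ∀ z w, ∑ u, K z u * K u w = K z w)
  (hunit : ∀ x : S, red x ≠ 0 → IsUnit x)
  {z u : X} (hstab : MulAction.stabilizer R z = MulAction.stabilizer R u)
  (hinj : ∀ v : X → k, (∀ y, y ∉ MulAction.orbit R u → v y = 0) →
    (∀ x ∈ MulAction.orbit R z, ∑ y, red (K x y) * v y = 0) → v = 0)

include hidem hunit hstab hinj in
/-- The decomposition of the idempotent along an invertible block. -/
theorem exists_complement [DecidableEq X] :
    ∃ (b : X → X → S), (∀ s x, x ∉ MulAction.orbit R z → b s x = 0) ∧
      (∀ f : X → k, (∀ x, x ∉ MulAction.orbit R z → f x = 0) →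
        (∀ y ∈ MulAction.orbit R u, ∑ x, f x * red (K x y) = 0) → f = 0) ∧
      ∃ D : Matrix X X S, D * D = D ∧
        (∀ s t, D s t = K s t - ∑ x, b s x * K x t) ∧
        (∀ s y, y ∈ MulAction.orbit R u → D s y = 0) ∧
        D.trace = (∑ x, K x x) - (Nat.card (MulAction.orbit R z) : S) := by
  classical
  haveI := Fintype.ofFinite (MulAction.orbit R z)
  haveI := Fintype.ofFinite (MulAction.orbit R u)
  have hcard : Nat.card (MulAction.orbit R z) = Nat.card (MulAction.orbit R u) := by
    rw [Nat.card_coe_set_eq, Nat.card_coe_set_eq, ← MulAction.index_stabilizer,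
      ← MulAction.index_stabilizer, hstab]
  obtain ⟨e⟩ : Nonempty (MulAction.orbit R z ≃ MulAction.orbit R u) :=
    Finite.card_eq.1 hcard |>.elim (fun e => ⟨e⟩)
  set O := MulAction.orbit R z with hO
  let P : Matrix X X S := Matrix.of K
  let A : Matrix O O S := Matrix.of fun x x' => K x (e x')
  let C : Matrix X O S := Matrix.of fun w x' => K w (e x')
  let Rm : Matrix O X S := Matrix.of fun x w => K x w
  have hA : IsUnit A := by
    rw [Matrix.isUnit_iff_isUnit_det]
    refine hunit _ ?_
    rw [RingHom.map_det]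
    intro h0
    obtain ⟨v, hv0, hv⟩ := Matrix.exists_mulVec_eq_zero_iff.2 h0
    apply hv0
    let w : X → k := fun y => if h : y ∈ MulAction.orbit R u then v (e.symm ⟨y, h⟩) else 0
    have hw : w = 0 := by
      refine hinj w (fun y hy => dif_neg hy) fun x hx => ?_
      have hx' := congrFun hv ⟨x, hx⟩
      simp only [Matrix.mulVec, dotProduct, RingHom.mapMatrix_apply, Matrix.map_apply,
        Pi.zero_apply, A, Matrix.of_apply] at hx'
      rw [← Finset.sum_subset (Finset.subset_univ (MulAction.orbit R u).toFinset)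
        (fun y _ hy => by simp [w, Set.mem_toFinset.not.1 hy]), Finset.sum_subtype
        (p := fun y => y ∈ MulAction.orbit R u) _ (fun y => Set.mem_toFinset)]
      refine (Equiv.sum_comp e _).symm.trans (Eq.trans ?_ hx')
      refine Finset.sum_congr rfl fun x' _ => ?_
      simp [w]
    funext x'
    have := congrFun hw (e x')
    simpa [w] using this
  obtain ⟨Ai, hAi1, hAi2⟩ : ∃ Ai, A * Ai = 1 ∧ Ai * A = 1 :=
    ⟨_, hA.mul_val_inv, hA.val_inv_mul⟩
  have hPC : P * C = C := by
    ext w x'
    exact hidem w (e x')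
  have hRP : Rm * P = Rm := by
    ext x w
    exact hidem x w
  have hRC : Rm * C = A := by
    ext x x'
    exact hidem x (e x')
  have hPP : P * P = P := by
    ext s t
    exact hidem s t
  set E := C * Ai * Rm with hE
  have hPE : P * E = E := by rw [hE, ← Matrix.mul_assoc, ← Matrix.mul_assoc, hPC]
  have hEP : E * P = E := by rw [hE, Matrix.mul_assoc, hRP]
  have hEE : E * E = E := by
    calc E * E = C * Ai * (Rm * C) * Ai * Rm := by simp only [hE, Matrix.mul_assoc]
      _ = E := by rw [hRC, Matrix.mul_assoc (C * Ai) A Ai, hAi1, Matrix.mul_one]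
  refine ⟨fun s x => if h : x ∈ O then (C * Ai) s ⟨x, h⟩ else 0, fun s x hx => dif_neg hx, ?_,
    P - E, ?_, ?_, ?_, ?_⟩
  · intro f hf0 hf
    have hAdet : IsUnit (A.map red) := by
      exact hA.map red.mapMatrix
    have h1 : Matrix.vecMul (fun x : O => f x) (A.map red) = 0 := by
      funext x'
      have := hf (e x') (e x').2
      rw [← Finset.sum_subset (Finset.subset_univ O.toFinset)
        (fun y _ hy => by simp [hf0 y (Set.mem_toFinset.not.1 hy)]), Finset.sum_subtype
        (p := fun y => y ∈ O) _ (fun y => Set.mem_toFinset)] at this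
      simpa [Matrix.vecMul, dotProduct, A] using this
    have h2 : (fun x : O => f x) = 0 :=
      Matrix.vecMul_injective_iff_isUnit.2 hAdet (h1.trans (Matrix.zero_vecMul _).symm)
    funext x
    by_cases hx : x ∈ O
    · exact congrFun h2 ⟨x, hx⟩
    · exact hf0 x hx
  · rw [Matrix.sub_mul, Matrix.mul_sub, Matrix.mul_sub, hPP, hPE, hEP, hEE]; simp
  · intro s t
    rw [Matrix.sub_apply, hE, Matrix.mul_apply]
    congr 1
    rw [← Finset.sum_subset (Finset.subset_univ O.toFinset)
      (fun y _ hy => by simp [dif_neg (Set.mem_toFinset.not.1 hy)]), Finset.sum_subtype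
      (p := fun y => y ∈ O) _ (fun y => Set.mem_toFinset)]
    exact Finset.sum_congr rfl fun x _ => by simp [Rm]
  · intro s y hy
    obtain ⟨x', hx'⟩ : ∃ x', e x' = ⟨y, hy⟩ := ⟨e.symm ⟨y, hy⟩, e.apply_symm_apply _⟩
    have h3 : E * C = C := by
      rw [hE, Matrix.mul_assoc, hRC, Matrix.mul_assoc, hAi2, Matrix.mul_one]
    have h4 : ∀ w, C w x' = P w y := fun w => by simp [C, P, hx']
    have h5 : (E * P) s y = C s x' := by
      rw [← congrFun (congrFun h3 s) x', Matrix.mul_apply, Matrix.mul_apply]
      exact Finset.sum_congr rfl fun w _ => by rw [h4]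
    rw [Matrix.sub_apply, ← congrFun (congrFun hEP s) y, h5, h4, sub_self]
  · rw [Matrix.trace_sub, hE, Matrix.trace_mul_comm, ← Matrix.mul_assoc, hRC, hAi1, Matrix.trace_one,
      Nat.card_eq_fintype_card]
    rfl

include hidem hunit hstab hinj in
/-- The orbit is at most the trace; when it equals it, every fixed pair with nonzero coefficient
fixes a point of the orbit. -/
theorem orbit_bounds {p : ℕ} [Fact p.Prime] [CharP k p] (hR : IsPGroup p R)
    (hK : ∀ (r : R) z w, K (r • z) (r • w) = K z w) (hι : Function.Injective ι) {N : ℕ}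
    (htr : ι (∑ x, K x x) = N) :
    Nat.card (MulAction.orbit R z) ≤ N ∧ (N ≤ Nat.card (MulAction.orbit R z) →
      ∀ (T : Subgroup R) (s t : X), (∀ g ∈ T, g • s = s) → (∀ g ∈ T, g • t = t) →
        red (K s t) ≠ 0 → ∃ x ∈ MulAction.orbit R z, ∀ g ∈ T, g • x = x) := by
  classical
  obtain ⟨b, hb0, huniq, D, hDD, hDapp, hDu, hDtr⟩ :=
    exists_complement red K hidem hunit hstab hinj
  obtain ⟨m, hm, hm0⟩ := idempotent_trace (D.map ι) (by rw [← Matrix.map_mul, hDD])
  have htr' : (m : ℂ) = (N : ℂ) - (Nat.card (MulAction.orbit R z) : ℂ) := by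
    rw [← hm, show (D.map ι).trace = ι D.trace from
      (AddMonoidHom.map_trace ι.toAddMonoidHom D).symm, hDtr, map_sub, map_natCast, htr]
  have hN : N = m + Nat.card (MulAction.orbit R z) := by
    have : (N : ℂ) = ((m + Nat.card (MulAction.orbit R z) : ℕ) : ℂ) := by
      push_cast; rw [htr']; ring
    exact_mod_cast this
  refine ⟨by omega, fun hle T s t hs ht hne => ?_⟩
  have hD0 : ∀ s t, K s t = ∑ x, b s x * K x t := by
    intro s t
    have h := congrFun (congrFun (hm0 (by omega)) s) t
    rw [Matrix.map_apply, Matrix.zero_apply] at h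
    have h' : D s t = 0 := hι (by rw [h, map_zero])
    exact sub_eq_zero.1 ((hDapp s t).symm.trans h')
  have hinvO : ∀ g : R, ∀ x, g • x ∈ MulAction.orbit R z → x ∈ MulAction.orbit R z := by
    intro g x h
    have := MulAction.mem_orbit_of_mem_orbit g⁻¹ h
    rwa [inv_smul_smul] at this
  have hinv : ∀ g ∈ T, ∀ x, red (b s (g • x)) = red (b s x) := by
    intro g hg
    have h := huniq (fun x => red (b s (g • x)) - red (b s x)) (fun x hx => by
      rw [hb0 s x hx, hb0 s (g • x) fun h => hx (hinvO g x h), sub_self]) fun y hy => ?_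
    · exact fun x => sub_eq_zero.1 (congrFun h x)
    simp only [sub_mul, Finset.sum_sub_distrib, ← map_mul, ← map_sum, ← hD0]
    rw [sub_eq_zero]
    congr 1
    calc ∑ x, b s (g • x) * K x y = ∑ x, b s x * K x (g • y) := by
          rw [← Equiv.sum_comp (MulAction.toPerm g⁻¹)]
          refine Finset.sum_congr rfl fun x _ => ?_
          simp only [MulAction.toPerm_apply, smul_inv_smul]
          rw [← hK g (g⁻¹ • x) y, smul_inv_smul]
      _ = K s (g • y) := (hD0 _ _).symm
      _ = K s y := by
          have := hK g s y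
          rwa [hs g hg] at this
  have hsum : ∑ x, red (b s x) * red (K x t) ≠ 0 := by
    simp only [← map_mul, ← map_sum, ← hD0]
    exact hne
  obtain ⟨x, hx, hx0⟩ := exists_fixed_of_sum_ne_zero hR T (fun x => red (b s x) * red (K x t))
    (fun g hg x => by
      rw [hinv g hg]
      congr 2
      conv_lhs => rw [← ht g hg, hK]) hsum
  refine ⟨x, ?_, hx⟩
  by_contra h
  exact hx0 (by rw [hb0 s x h, map_zero, zero_mul])

end CfsgLib.MinSquares
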