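import Cfsg.Agent.Lib.Blocks.OrbitSum
import Cfsg.Agent.Lib.Perm.Module

/-!
# Idempotent endomorphisms of permutation modules of `p`-groups

An equivariant idempotent matrix `K` on a finite `R`-set, `R` a `p`-group, over a field of
characteristic `p`: if it is nonzero, there are two orbits with equal stabilisers between which it is
invertible.
-/

set_option linter.unusedSectionVars false
set_option linter.style.haveILetI false

namespace CfsgLib.MinSquares

open CfsgLib.Blocks

variable {k R X : Type*} [Field k] [Group R] [Finite R] [Fintype X] [MulAction R X]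
  {p : ℕ} [Fact p.Prime] [CharP k p]

open scoped Classical in
/-- The sum of a function over the orbit of a point. -/
noncomputable def orbSum (R : Type*) [Group R] [MulAction R X] (f : X → k) (y : X) : k :=
  ∑ w, if w ∈ MulAction.orbit R y then f w else 0

theorem orbSum_congr (f : X → k) {y y' : X} (h : y ∈ MulAction.orbit R y') :
    orbSum R f y = orbSum R f y' := by
  unfold orbSum
  rw [MulAction.orbit_eq_iff.2 h]

/-- A nonzero invariant sum has a nonzero fixed term. -/
theorem exists_fixed_of_sum_ne_zero (hR : IsPGroup p R) (T : Subgroup R) (F : X → k)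
    (hF : ∀ g ∈ T, ∀ w, F (g • w) = F w) (h : ∑ w, F w ≠ 0) :
    ∃ w, (∀ g ∈ T, g • w = w) ∧ F w ≠ 0 := by
  classical
  rw [sum_eq_sum_fixedPoints p (hR.to_subgroup T) F (fun g w => hF g g.2 w)] at h
  obtain ⟨w, hw, hne⟩ := Finset.exists_ne_zero_of_sum_ne_zero h
  exact ⟨w, fun g hg => (Finset.mem_filter.1 hw).2 ⟨g, hg⟩, hne⟩

/-- Group a sum by orbits. -/
theorem exists_orbSum_mul_ne_zero (f h : X → k) (hh : ∀ (r : R) w, h (r • w) = h w)
    (hne : ∑ w, f w * h w ≠ 0) : ∃ u, orbSum R f u ≠ 0 ∧ h u ≠ 0 := by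
  classical
  letI s := MulAction.orbitRel R X
  rw [← Finset.sum_fiberwise Finset.univ (fun w => (Quotient.mk s w)) (fun w => f w * h w)] at hne
  obtain ⟨q, -, hq⟩ := Finset.exists_ne_zero_of_sum_ne_zero hne
  obtain ⟨u, rfl⟩ := Quotient.exists_rep q
  have hfib : ∀ w, Quotient.mk s w = Quotient.mk s u ↔ w ∈ MulAction.orbit R u := fun w => by
    rw [Quotient.eq]
    simp [s, MulAction.orbitRel_apply]
  have hsum : ∑ w ∈ Finset.univ.filter (fun w => Quotient.mk s w = Quotient.mk s u), f w * h w =
      orbSum R f u * h u := by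
    rw [orbSum, Finset.sum_mul, Finset.sum_filter]
    refine Finset.sum_congr rfl fun w _ => ?_
    by_cases hw : w ∈ MulAction.orbit R u
    · rw [if_pos ((hfib w).2 hw), if_pos hw]
      obtain ⟨r, rfl⟩ := hw
      rw [hh]
    · rw [if_neg (fun e => hw ((hfib w).1 e)), if_neg hw, zero_mul]
  rw [hsum] at hq
  exact ⟨u, left_ne_zero_of_mul hq, right_ne_zero_of_mul hq⟩

section Matrix

variable (K : X → X → k) (hK : ∀ (r : R) z w, K (r • z) (r • w) = K z w)
  (hidem : ∀ z w, ∑ u, K z u * K u w = K z w)

include hK in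
theorem orbSum_smul (r : R) (z y : X) : orbSum R (K (r • z)) y = orbSum R (K z) y := by
  classical
  unfold orbSum
  rw [← Equiv.sum_comp (MulAction.toPerm r)]
  refine Finset.sum_congr rfl fun w _ => ?_
  simp only [MulAction.toPerm_apply, hK]
  refine if_congr ⟨fun h => ?_, fun h => ?_⟩ rfl rfl
  · have := MulAction.mem_orbit_of_mem_orbit r⁻¹ h
    rwa [inv_smul_smul] at this
  · exact MulAction.mem_orbit_of_mem_orbit r h

/-- The translation representation on functions. -/
noncomputable def funRep : Representation k R (X → k) where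
  toFun r := LinearMap.funLeft k k (fun x => r⁻¹ • x)
  map_one' := by
    ext v x
    simp [LinearMap.funLeft]
  map_mul' r s := by
    ext v x
    simp [LinearMap.funLeft, mul_smul]

theorem funRep_apply (r : R) (v : X → k) (x : X) : funRep r v x = v (r⁻¹ • x) := rfl

include hK in
theorem equivariant_apply (r : R) (v : X → k) (x : X) :
    ∑ w, K x w * v (r⁻¹ • w) = ∑ w, K (r⁻¹ • x) w * v w := by
  conv_lhs => rw [← Equiv.sum_comp (MulAction.toPerm r)]
  refine Finset.sum_congr rfl fun w _ => ?_
  simp only [MulAction.toPerm_apply, inv_smul_smul]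
  congr 1
  have := hK r⁻¹ x (r • w)
  rw [inv_smul_smul] at this
  exact this.symm

include hK hidem in
/-- Some orbit sum of a nonzero equivariant idempotent is nonzero. -/
theorem exists_orbSum_ne_zero (hR : IsPGroup p R) (hne : ∃ z w, K z w ≠ 0) :
    ∃ z y, orbSum R (K z) y ≠ 0 := by
  classical
  obtain ⟨z, w, hzw⟩ := hne
  let W : Submodule k (X → k) :=
    { carrier := {v | ∀ x, ∑ u, K x u * v u = v x}
      add_mem' := fun {a b} ha hb x => by simp [mul_add, Finset.sum_add_distrib, ha x, hb x]
      zero_mem' := fun x => by simp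
      smul_mem' := fun c v hv x => by
        simp only [Pi.smul_apply, smul_eq_mul]
        rw [← hv x, Finset.mul_sum]
        exact Finset.sum_congr rfl fun u _ => by ring }
  have hW : ∀ r : R, ∀ v ∈ W, funRep r v ∈ W := by
    intro r v hv x
    simp only [funRep_apply]
    rw [equivariant_apply K hK r v x]
    exact hv _
  have hv : (fun x => K x w) ∈ W := fun x => hidem x w
  obtain ⟨h, hh, hh0, hfix⟩ := Perm.exists_fixed_vector (p := p) hR funRep W hW hv
    (fun e => hzw (congrFun e z))
  obtain ⟨x, hx⟩ := Function.ne_iff.1 hh0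
  have hinv : ∀ (r : R) u, h (r • u) = h u := fun r u => by
    have := congrFun (hfix r⁻¹) u
    rwa [funRep_apply, inv_inv] at this
  obtain ⟨u, hu, -⟩ := exists_orbSum_mul_ne_zero (R := R) (K x) h hinv (by rw [hh x]; exact hx)
  exact ⟨x, u, hu⟩

include hK hidem in
/-- Two orbits with the same stabiliser between which a nonzero equivariant idempotent is
invertible. -/
theorem exists_block (hR : IsPGroup p R) (hne : ∃ z w, K z w ≠ 0) :
    ∃ z u, MulAction.stabilizer R z = MulAction.stabilizer R u ∧ K z u ≠ 0 ∧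
      ∀ v : X → k, (∀ y, y ∉ MulAction.orbit R u → v y = 0) →
        (∀ x ∈ MulAction.orbit R z, ∑ y, K x y * v y = 0) → v = 0 := by
  classical
  obtain ⟨z₀, y₀, h0⟩ := exists_orbSum_ne_zero (p := p) K hK hidem hR hne
  obtain ⟨⟨z, y⟩, hzy, hmax⟩ := Finset.exists_max_image
    (Finset.univ.filter fun a : X × X => orbSum R (K a.1) a.2 ≠ 0)
    (fun a => Nat.card (MulAction.stabilizer R a.1)) ⟨(z₀, y₀), by simp [h0]⟩
  simp only [Finset.mem_filter, Finset.mem_univ, true_and] at hzy hmax
  have hS : orbSum R (K z) y = ∑ u, K z u * orbSum R (K u) y := by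
    simp only [orbSum, Finset.mul_sum, mul_ite, mul_zero]
    rw [Finset.sum_comm]
    refine Finset.sum_congr rfl fun w _ => ?_
    split_ifs with h
    · rw [hidem]
    · simp
  obtain ⟨u, hzu, huy⟩ := exists_orbSum_mul_ne_zero (R := R) (K z) (fun u => orbSum R (K u) y)
    (fun r u => orbSum_smul K hK r u y) (hS ▸ hzy)
  obtain ⟨u', hfix, hu'⟩ := exists_fixed_of_sum_ne_zero hR (MulAction.stabilizer R z)
    (fun w => if w ∈ MulAction.orbit R u then K z w else 0) (fun g hg w => by
      have e1 : K z (g • w) = K z w := by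
        have := hK g z w
        rwa [MulAction.mem_stabilizer_iff.1 hg] at this
      rw [e1]
      refine if_congr ⟨fun h => ?_, fun h => MulAction.mem_orbit_of_mem_orbit g h⟩ rfl rfl
      have := MulAction.mem_orbit_of_mem_orbit g⁻¹ h
      rwa [inv_smul_smul] at this) hzu
  have hmem : u' ∈ MulAction.orbit R u := by
    by_contra h
    exact hu' (if_neg h)
  rw [if_pos hmem] at hu'
  have hle : MulAction.stabilizer R z ≤ MulAction.stabilizer R u' := fun g hg =>
    MulAction.mem_stabilizer_iff.2 (hfix g hg)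
  have hu'y : orbSum R (K u') y ≠ 0 := by
    obtain ⟨r, rfl⟩ := hmem
    simpa only [orbSum_smul K hK] using huy
  have heq : MulAction.stabilizer R z = MulAction.stabilizer R u' :=
    Subgroup.eq_of_le_of_card_ge hle (hmax (u', y) hu'y)
  rw [← orbSum_congr (K z) hmem] at hzu
  refine ⟨z, u', heq, hu', fun v hv0 hv => ?_⟩
  let W : Submodule k (X → k) :=
    { carrier := {v | (∀ y, y ∉ MulAction.orbit R u' → v y = 0) ∧
        ∀ x ∈ MulAction.orbit R z, ∑ y, K x y * v y = 0}
      add_mem' := fun {a b} ha hb => ⟨fun y hy => by simp [ha.1 y hy, hb.1 y hy],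
        fun x hx => by simp [mul_add, Finset.sum_add_distrib, ha.2 x hx, hb.2 x hx]⟩
      zero_mem' := ⟨fun y _ => rfl, fun x _ => by simp⟩
      smul_mem' := fun c v hv => ⟨fun y hy => by simp [hv.1 y hy], fun x hx => by
        simp only [Pi.smul_apply, smul_eq_mul]
        rw [← mul_zero c, ← hv.2 x hx, Finset.mul_sum]
        exact Finset.sum_congr rfl fun u _ => by ring⟩ }
  have hW : ∀ r : R, ∀ v ∈ W, funRep r v ∈ W := by
    intro r v hv
    refine ⟨fun x hx => ?_, fun x hx => ?_⟩
    · rw [funRep_apply]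
      refine hv.1 _ fun h => hx ?_
      have := MulAction.mem_orbit_of_mem_orbit r h
      rwa [smul_inv_smul] at this
    · simp only [funRep_apply]
      rw [equivariant_apply K hK r v x]
      exact hv.2 _ (MulAction.mem_orbit_of_mem_orbit _ hx)
  by_contra hne0
  obtain ⟨w, hw, hw0, hwfix⟩ := Perm.exists_fixed_vector (p := p) hR funRep W hW
    (show v ∈ W from ⟨hv0, hv⟩) hne0
  have hconst : ∀ y ∈ MulAction.orbit R u', w y = w u' := by
    rintro _ ⟨r, rfl⟩
    have := congrFun (hwfix r⁻¹) u'
    rwa [funRep_apply, inv_inv] at this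
  have h1 : orbSum R (K z) u' * w u' = 0 := by
    rw [← hw.2 z (MulAction.mem_orbit_self z), orbSum, Finset.sum_mul]
    refine Finset.sum_congr rfl fun y _ => ?_
    split_ifs with h
    · rw [hconst y h]
    · rw [hw.1 y h, mul_zero, zero_mul]
  have hc := (mul_eq_zero.1 h1).resolve_left hzu
  apply hw0
  funext y
  by_cases h : y ∈ MulAction.orbit R u'
  · rw [hconst y h, hc]; rfl
  · exact hw.1 y h

end Matrix

end CfsgLib.MinSquares
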